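import Groth.Agent.EtCompLib.Sections
import Groth.Agent.EtShLib.FlasquePush
import Groth.Agent.EtShLib.ExtComp
import Groth.Agent.AbCompactLib.ExtCompact
import Groth.Agent.DerLib.KInjDerived
import Groth.Agent.DerLib.KInjRes
import Groth.Agent.DerLib.Brown
import Groth.Agent.FModLib.AdjExt
import Groth.Prelude.Def_DCoh2

/-!
Finite cohomological dimension makes the free sheaves compact generators of the derived category of
étale abelian sheaves; direct images then preserve coproducts.
-/

set_option autoImplicit false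
set_option linter.unusedSectionVars false
set_option linter.style.haveILetI false
set_option backward.isDefEq.respectTransparency false
set_option backward.isDefEq.respectTransparency.types false
set_option synthInstance.maxHeartbeats 400000
set_option maxHeartbeats 1600000

universe u

open CategoryTheory CategoryTheory.Limits AlgebraicGeometry Opposite CategoryTheory.Abelian
open Groth.Agent.EtShLib

attribute [local instance] HasDerivedCategory.standard

namespace Groth.Agent.EtCompLib

variable {X Y : Scheme.{u}}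

/-- Finite cohomological dimension on quasi-compact quasi-separated étale objects. -/
def HasFinCd (X : Scheme.{u}) : Prop :=
  ∀ U : X.Etale, CompactSpace ↥(U.left) → QuasiSeparatedSpace ↥(U.left) →
    ∃ d : ℕ, ∀ (F : EtCoh.Ab U.left) (q : ℕ), d < q → Subsingleton (EtCoh.H U.left F q)

theorem nonempty_free_top_iso (Z : Scheme.{u}) : Nonempty (free (EtCoh.top Z) ≅ constZ Z) := by
  obtain ⟨hT⟩ := isTerminal_top Z
  have key : ∀ {F G : EtCoh.Ab Z} (s : constZ Z ⟶ F) (f : F ⟶ G),
      f.hom.app (op (EtCoh.top Z)) (Sheaf.H.equiv₀ F hT (Ext.mk₀ s)) =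
        Sheaf.H.equiv₀ G hT (Ext.mk₀ (s ≫ f)) := fun s f => by
    rw [Sheaf.H.equiv₀_naturality, Sheaf.H.map_apply, Ext.mk₀_comp_mk₀]
  let gc := Sheaf.H.equiv₀ (constZ Z) hT (Ext.mk₀ (𝟙 _))
  obtain ⟨a, ha⟩ := ev_surjective (U := EtCoh.top Z) (F := constZ Z) gc
  obtain ⟨b, hb⟩ := Ext.addEquiv₀.symm.surjective
    ((Sheaf.H.equiv₀ (free (EtCoh.top Z)) hT).symm (ev (𝟙 (free (EtCoh.top Z)))))
  have hb' : Sheaf.H.equiv₀ (free (EtCoh.top Z)) hT (Ext.mk₀ b) = ev (𝟙 (free (EtCoh.top Z))) := by
    rw [← Ext.addEquiv₀_symm_apply, hb, AddEquiv.apply_symm_apply]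
  refine ⟨⟨a, b, ev_injective ?_, ?_⟩⟩
  · rw [ev_comp, ha, key, Category.id_comp, hb']
  · apply Ext.addEquiv₀.symm.injective
    rw [Ext.addEquiv₀_symm_apply, Ext.addEquiv₀_symm_apply]
    apply (Sheaf.H.equiv₀ _ hT).injective
    rw [← key, hb', ← ev_comp, Category.id_comp, ha]

theorem nonempty_free_iso {W U : X.Etale} (i : W ≅ U) : Nonempty (free W ≅ free U) := by
  obtain ⟨a, ha⟩ := ev_surjective (U := W) (F := free U) ((free U).obj.map i.hom.op (ev (𝟙 (free U))))
  obtain ⟨b, hb⟩ := ev_surjective (U := U) (F := free W) ((free W).obj.map i.inv.op (ev (𝟙 (free W))))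
  have key : ∀ {W U : X.Etale} (i : W ≅ U) (a : free W ⟶ free U) (b : free U ⟶ free W),
      ev a = (free U).obj.map i.hom.op (ev (𝟙 (free U))) →
      ev b = (free W).obj.map i.inv.op (ev (𝟙 (free W))) → a ≫ b = 𝟙 _ := fun {W U} i a b ha hb => by
    apply ev_injective
    rw [ev_comp, ha]
    refine (NatTrans.naturality_apply b.hom i.hom.op _).trans ?_
    rw [← ev_comp, Category.id_comp, hb]
    refine (ConcreteCategory.comp_apply ((free W).obj.map i.inv.op) ((free W).obj.map i.hom.op) _).symm.trans ?_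
    have h1 : (free W).obj.map i.inv.op ≫ (free W).obj.map i.hom.op = 𝟙 _ := by
      rw [← Functor.map_comp, ← op_comp, i.hom_inv_id, op_id, CategoryTheory.Functor.map_id]
    rw [h1]
    rfl
  exact ⟨⟨a, b, key i a b ha hb, key i.symm b a hb ha⟩⟩

theorem nonempty_extZero_top_iso (U : X.Etale) :
    haveI : AlgebraicGeometry.Etale U.hom := U.prop
    haveI := jCont U.hom
    Nonempty ((EtShriek.extZero U.hom).obj (constZ U.left) ≅ free U) := by
  haveI : AlgebraicGeometry.Etale U.hom := U.prop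
  haveI := jCont U.hom
  obtain ⟨e₁⟩ := nonempty_free_top_iso U.left
  obtain ⟨e₂⟩ := nonempty_extZero_extConst U.hom (EtCoh.top U.left) ℤ
  let i : (EtShriek.compEtale U.hom).obj (EtCoh.top U.left) ≅ U :=
    MorphismProperty.Over.isoMk (Iso.refl _) (by
      show 𝟙 _ ≫ U.hom = 𝟙 _ ≫ U.hom
      rfl)
  have e₃ := nonempty_free_iso i
  exact ⟨(EtShriek.extZero U.hom).mapIso e₁.symm ≪≫ e₂ ≪≫ e₃.some⟩

theorem exists_ext_bound (hX : HasFinCd X) {U : X.Etale} (hU : U ∈ qcqsObj X) :
    ∃ d : ℕ, ∀ (M : EtCoh.Ab X) (p : ℕ), d < p → Subsingleton (Ext.{u + 1} (free U) M p) := by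
  haveI : AlgebraicGeometry.Etale U.hom := U.prop
  haveI := jCont U.hom
  obtain ⟨d, hd⟩ := hX U hU.1 hU.2
  obtain ⟨e⟩ := nonempty_extZero_top_iso U
  refine ⟨d, fun M p hp => ?_⟩
  let R := EtShriek.restrAlong U.hom
  let L := EtShriek.extZero U.hom
  let adj : L ⊣ R := EtShriek.extZeroAdj U.hom
  haveI : R.Additive := { }
  haveI : L.Additive := adj.left_adjoint_additive
  haveI : PreservesFiniteLimits L := preservesFiniteLimits_extZero U.hom
  haveI : PreservesColimitsOfSize.{0, 0} L := adj.leftAdjoint_preservesColimits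
  haveI : PreservesFiniteColimits L := PreservesColimitsOfSize.preservesFiniteColimits _
  haveI : PreservesLimitsOfSize.{0, 0} R := adj.rightAdjoint_preservesLimits
  haveI : PreservesFiniteLimits R := PreservesLimitsOfSize.preservesFiniteLimits _
  haveI : PreservesColimitsOfSize.{0, 0} (pullA U.hom AddCommGrpCat.{u + 1}) :=
    (adjA U.hom AddCommGrpCat.{u + 1}).leftAdjoint_preservesColimits
  haveI : PreservesFiniteColimits (pullA U.hom AddCommGrpCat.{u + 1}) :=
    PreservesColimitsOfSize.preservesFiniteColimits _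
  haveI : PreservesFiniteColimits R := preservesFiniteColimits_of_natIso (asIso (restrTheta U.hom))
  haveI : Subsingleton (Ext.{u + 1} (constZ U.left) (R.obj M) p) := hd (R.obj M) p hp
  haveI : Subsingleton (Ext.{u + 1} (L.obj (constZ U.left)) M p) :=
    (FModLib.extAdjHom_bijective adj (constZ U.left) M p).1.subsingleton
  refine subsingleton_of_forall_eq 0 fun x => ?_
  erw [← Ext.mk₀_id_comp x, ← e.inv_hom_id, ← Ext.mk₀_comp_mk₀, Ext.comp_assoc_of_second_deg_zero,
    Subsingleton.elim ((Ext.mk₀ e.hom).comp x (zero_add p)) 0, Ext.comp_zero]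

theorem hasCoproduct {ι : Type (u + 1)} (M : ι → DCoh.DEt X) : HasCoproduct M := by
  let C := fun i => DerivedCategory.Q.objPreimage (M i)
  let e := fun i => DerivedCategory.Q.objObjPreimageIso (M i)
  let hsum : IsColimit (Cofan.mk (DerivedCategory.Q.obj (∐ C))
      (fun i => (e i).inv ≫ DerivedCategory.Q.map (Sigma.ι C i)) : Cofan M) :=
    (IsColimit.precomposeInvEquiv (Discrete.natIso fun i => e i.as) _).symm
      (KFlatLib.isColimit_Q_sigma C).some |>.ofIsoColimit (Cocone.ext (Iso.refl _) fun i => by simp)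
  exact ⟨⟨⟨_, hsum⟩⟩⟩

/-- The free sheaf as an object of the derived category. -/
noncomputable abbrev freeD (U : X.Etale) : DCoh.DEt X :=
  (DerivedCategory.singleFunctor (EtCoh.Ab X) 0).obj (free U)

theorem finFac_free (hX : HasFinCd X) {U : X.Etale} (hU : U ∈ qcqsObj X) {ι : Type (u + 1)}
    (M : ι → DCoh.DEt X) [HasCoproduct M] : PerfCompLib.FinFac M (freeD U) := by
  obtain ⟨d, hd⟩ := exists_ext_bound hX hU
  haveI : HasCoproduct fun i : ULift.{0} ι => M i.down :=
    ⟨⟨⟨_, PerfCompLib.isColimitULift _ (coproductIsCoproduct M)⟩⟩⟩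
  exact AbCompactLib.finFac_down M (AbCompactLib.finFac_of_dim (free U) d hd
    (fun p κ => preservesSums_ext_free hU p κ) M)

theorem finFac_free_shift (hX : HasFinCd X) {U : X.Etale} (hU : U ∈ qcqsObj X) {ι : Type (u + 1)}
    (M : ι → DCoh.DEt X) [HasCoproduct M] (n : ℤ) : PerfCompLib.FinFac M ((freeD U)⟦n⟧) := by
  haveI := hasCoproduct fun i => (M i)⟦-n⟧
  exact PerfCompLib.FinFac.shift (add_neg_cancel n) (finFac_free hX hU _)

/-- Quasi-compact quasi-separated objects. -/
abbrev Idx (X : Scheme.{u}) : Type (u + 1) := {U : X.Etale // U ∈ qcqsObj X}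

theorem enoughKInj (X : Scheme.{u}) : DerLib.KInjDerived.EnoughKInj (EtCoh.Ab X) := fun K => by
  haveI : IsGrothendieckAbelian.{u + 1} (EtCoh.Ab X) := inferInstance
  obtain ⟨I, g, hI, hg, -⟩ := DerLib.KInjRes.exists_resolution K
  exact ⟨I, g, hI, (HomologicalComplex.mem_quasiIso_iff _).1 hg.2⟩

theorem epi_of_free {F G : EtCoh.Ab X} (φ : F ⟶ G)
    (h : ∀ (U : Idx X) (s : free U.1 ⟶ G), ∃ t : free U.1 ⟶ F, t ≫ φ = s) : Epi φ := by
  haveI : Sheaf.IsLocallySurjective φ := ⟨fun {W} x => by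
    let 𝒰 := W.left.affineCover
    haveI : AlgebraicGeometry.Etale W.hom := W.prop
    let V : 𝒰.I₀ → X.Etale := fun i => MorphismProperty.Over.mk ⊤ (𝒰.f i ≫ W.hom)
      (inferInstance : AlgebraicGeometry.Etale (𝒰.f i ≫ W.hom))
    let g : ∀ i, V i ⟶ W := fun i => MorphismProperty.Over.homMk (𝒰.f i) rfl
    refine GrothendieckTopology.superset_covering _ ?_ ((Scheme.ofArrows_mem_smallEtaleTopology_iff g).2
      (Set.eq_univ_of_forall fun y => Set.mem_iUnion.2 ⟨𝒰.idx y, 𝒰.covers y⟩))
    rintro Z f ⟨_, a, _, ⟨i⟩, rfl⟩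
    haveI : IsAffine (V i).left := inferInstanceAs (IsAffine (𝒰.X i))
    obtain ⟨s, hs⟩ := ev_surjective (U := V i) (G.obj.map (g i).op x)
    obtain ⟨t, rfl⟩ := h ⟨V i, mem_qcqsObj_of_isAffine⟩ s
    refine ⟨F.obj.map a.op (ev t), ?_⟩
    rw [NatTrans.naturality_apply, ← ev_comp, hs, ← ConcreteCategory.comp_apply, ← Functor.map_comp]
    rfl⟩
  exact Sheaf.epi_of_isLocallySurjective φ

theorem generates (K : DCoh.DEt X)
    (h : ∀ (U : Idx X) (n : ℤ) (f : freeD U.1 ⟶ K⟦n⟧), f = 0) : IsZero K := by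
  obtain ⟨J, hJ, ⟨e⟩⟩ := DerLib.KInjDerived.essSurj_kInjective (enoughKInj X) K
  have hn : ∀ (U : Idx X) (n : ℤ)
      (f : (DerivedCategory.singleFunctor (EtCoh.Ab X) n).obj (free U.1) ⟶ K), f = 0 := fun U n f => by
    let c := ((DerivedCategory.singleFunctors (EtCoh.Ab X)).shiftIso n 0 n (add_zero n)).app (free U.1)
    have := h U n (c.inv ≫ f⟦n⟧')
    apply (shiftFunctor (DCoh.DEt X) n).map_injective
    rw [Functor.map_zero, ← cancel_epi c.inv, this, comp_zero]
  have hex : ∀ m : ℤ, J.ExactAt m := fun m => by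
    haveI : Epi (J.toCycles (m - 1) m) := epi_of_free _ fun U s => by
      let z : free U.1 ⟶ J.X m := s ≫ J.iCycles m
      let g : (CochainComplex.singleFunctor (EtCoh.Ab X) m).obj (free U.1) ⟶ J :=
        HomologicalComplex.mkHomFromSingle z fun k _ => by simp [z]
      have hg : DerivedCategory.Q.map g = 0 := by
        have := hn U m (((DerivedCategory.singleFunctorIsoCompQ (EtCoh.Ab X) m).app (free U.1)).hom ≫
          DerivedCategory.Q.map g ≫ e.hom)
        rw [← cancel_epi ((DerivedCategory.singleFunctorIsoCompQ (EtCoh.Ab X) m).app (free U.1)).hom,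
          ← cancel_mono e.hom, Category.assoc, this]
        simp
      have hq : (HomotopyCategory.quotient (EtCoh.Ab X) (ComplexShape.up ℤ)).map g = 0 := by
        refine (CochainComplex.IsKInjective.Qh_map_bijective _ J).1 ?_
        rw [Functor.map_zero]
        have e' := (DerivedCategory.quotientCompQhIso (EtCoh.Ab X)).hom.naturality g
        rw [hg, comp_zero] at e'
        exact (cancel_mono ((DerivedCategory.quotientCompQhIso (EtCoh.Ab X)).hom.app J)).1
          (e'.trans zero_comp.symm)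
      have H : Homotopy g 0 := HomotopyCategory.homotopyOfEq _ _ (hq.trans (Functor.map_zero _ _ _).symm)
      have hc := H.comm m
      rw [dNext_eq _ (show (ComplexShape.up ℤ).Rel m (m + 1) from rfl),
        prevD_eq _ (show (ComplexShape.up ℤ).Rel (m - 1) m by simp),
        show ((CochainComplex.singleFunctor (EtCoh.Ab X) m).obj (free U.1)).d m (m + 1) = 0 from
          HomologicalComplex.single_obj_d _ _ _ _ _, zero_comp, zero_add, HomologicalComplex.zero_f, add_zero] at hc
      refine ⟨(HomologicalComplex.singleObjXSelf (ComplexShape.up ℤ) m (free U.1)).inv ≫ H.hom m (m - 1), ?_⟩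
      rw [← cancel_mono (J.iCycles m), Category.assoc, J.toCycles_i, Category.assoc, ← hc]
      show (HomologicalComplex.singleObjXSelf (ComplexShape.up ℤ) m (free U.1)).inv ≫
        (HomologicalComplex.mkHomFromSingle z _).f m = z
      rw [HomologicalComplex.mkHomFromSingle_f, Iso.inv_hom_id_assoc]
    rw [HomologicalComplex.exactAt_iff_isZero_homology, IsZero.iff_id_eq_zero,
      ← cancel_epi (J.homologyπ m), ← cancel_epi (J.toCycles (m - 1) m)]
    simp
  obtain ⟨H⟩ := CochainComplex.IsKInjective.nonempty_homotopy_zero (𝟙 J) (show J.Acyclic from hex)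
  refine IsZero.of_iso ?_ e.symm
  rw [IsZero.iff_id_eq_zero, ← CategoryTheory.Functor.map_id, ← CategoryTheory.Functor.map_id,
    HomotopyCategory.eq_of_homotopy _ _ H, Functor.map_zero, Functor.map_zero]

theorem isIso_of_bijective {A B : DCoh.DEt X} (φ : A ⟶ B)
    (h : ∀ (U : Idx X) (n : ℤ), Function.Bijective fun v : (freeD U.1)⟦n⟧ ⟶ A => v ≫ φ) : IsIso φ := by
  obtain ⟨C, b, δ, hT⟩ := Pretriangulated.distinguished_cocone_triangle φ
  refine (Pretriangulated.Triangle.isZero₃_iff_isIso₁ _ hT).1 (generates C fun U n f => ?_)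
  let c := (shiftFunctorCompIsoId (DCoh.DEt X) n (-n) (add_neg_cancel n)).app C
  suffices hz : f⟦-n⟧' ≫ c.hom = 0 by
    apply (shiftFunctor (DCoh.DEt X) (-n)).map_injective
    rw [Functor.map_zero, ← cancel_mono c.hom, hz, zero_comp]
  let g := f⟦-n⟧' ≫ c.hom
  change g = 0
  have hg : g ≫ δ = 0 := by
    let d := (shiftFunctorAdd' (DCoh.DEt X) (-n - 1) 1 (-n) (by omega)).app (freeD U.1)
    obtain ⟨y, hy⟩ := (shiftFunctor (DCoh.DEt X) (1 : ℤ)).map_surjective (d.inv ≫ g ≫ δ)
    have h0 : y ≫ φ = 0 := by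
      apply (shiftFunctor (DCoh.DEt X) (1 : ℤ)).map_injective
      rw [Functor.map_comp, hy, Functor.map_zero, Category.assoc, Category.assoc,
        show δ ≫ φ⟦(1 : ℤ)⟧' = 0 from Pretriangulated.comp_distTriang_mor_zero₃₁ _ hT, comp_zero, comp_zero]
    have hy0 : y = 0 := (h U (-n - 1)).1 (h0.trans zero_comp.symm)
    rw [← cancel_epi d.inv, ← hy, hy0, Functor.map_zero, comp_zero]
  obtain ⟨g', hg'⟩ := Pretriangulated.Triangle.coyoneda_exact₃ _ hT g hg
  obtain ⟨v, hv⟩ := (h U (-n)).2 g'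
  refine hg'.trans ((congrArg (· ≫ b) hv.symm).trans ((Category.assoc _ _ _).trans ?_))
  exact (congrArg (v ≫ ·) (Pretriangulated.comp_distTriang_mor_zero₁₂ _ hT)).trans comp_zero

section Push

variable (f : X ⟶ Y) [QuasiCompact f] [QuasiSeparated f]

theorem bc_mem {V : Y.Etale} (hV : V ∈ qcqsObj Y) : (EtCoh.bc f).obj V ∈ qcqsObj X := by
  haveI : CompactSpace V.left := hV.1
  haveI : QuasiSeparatedSpace V.left := hV.2
  haveI : CompactSpace ↥((𝟭 Scheme).obj V.left) := hV.1
  haveI : QuasiSeparatedSpace ↥((𝟭 Scheme).obj V.left) := hV.2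
  exact ⟨QuasiCompact.compactSpace_of_compactSpace (pullback.fst V.hom f),
    quasiSeparatedSpace_of_quasiSeparated (pullback.fst V.hom f)⟩

theorem nonempty_pull_free (V : Y.Etale) :
    Nonempty ((EtCoh.pull f).obj (free V) ≅ free ((EtCoh.bc f).obj V)) := by
  let W := (EtCoh.bc f).obj V
  let adj := EtCoh.pullPushAdj f
  obtain ⟨a₀, ha₀⟩ := ev_surjective (U := V) (F := (EtCoh.push f).obj (free W)) (show ((EtCoh.push f).obj (free W)).obj.obj (op V) from (ev (𝟙 (free W)) :))
  let a := (adj.homEquiv _ _).symm a₀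
  obtain ⟨b, hb⟩ := ev_surjective (U := W) (F := (EtCoh.pull f).obj (free V)) (show ((EtCoh.pull f).obj (free V)).obj.obj (op W) from (ev (U := V) (F := (EtCoh.push f).obj ((EtCoh.pull f).obj (free V))) (adj.unit.app (free V)) :))
  refine ⟨⟨a, b, (adj.homEquiv _ _).injective (ev_injective ?_), ev_injective ?_⟩⟩
  · rw [Adjunction.homEquiv_naturality_right, Equiv.apply_symm_apply, ev_comp, ha₀]
    show b.hom.app (op W) (ev (𝟙 (free W))) = _
    rw [← ev_comp, Category.id_comp, hb, Adjunction.homEquiv_id]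
  · rw [ev_comp, hb]
    show ((EtCoh.push f).map a).hom.app (op V) (ev (adj.unit.app (free V))) = ev (𝟙 (free W))
    rw [← ev_comp, ← Adjunction.homEquiv_unit, Equiv.apply_symm_apply, ha₀]

variable [DCoh.HasRpushEt X f]

theorem preservesCoproducts (hS : HasFinCd Y) (hX : HasFinCd X) (ι : Type (u + 1)) :
    PreservesColimitsOfShape (Discrete ι) (DCoh.RpushEt X f) := by
  haveI : PreservesFiniteLimits (EtCoh.pull f) := preservesFiniteLimits_pullA (A := AddCommGrpCat.{u + 1}) f
  let adj₀ := EtCoh.pullPushAdj f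
  haveI : (EtCoh.pull f).IsLeftAdjoint := adj₀.isLeftAdjoint
  haveI : PreservesFiniteColimits (EtCoh.pull f) := inferInstance
  haveI : (EtCoh.pull f).Additive := adj₀.left_adjoint_additive
  let G := DCoh.RpushEt X f
  let adj : (EtCoh.pull f).mapDerivedCategory ⊣ G :=
    DerLib.KInjDerived.derivedAdj adj₀ G
      ((DCoh.pushEtKh X f).totalRightDerivedUnit DerivedCategory.Qh _) (enoughKInj X)
  haveI : G.Additive := adj.right_adjoint_additive
  refine ⟨fun {K} => ?_⟩
  let M : ι → DCoh.DEt X := fun i => K.obj ⟨i⟩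
  haveI := hasCoproduct M
  haveI := hasCoproduct fun i => G.obj (M i)
  have hbij : ∀ p : Idx Y × ℤ, Function.Bijective fun v : (freeD p.1.1)⟦p.2⟧ ⟶ ∐ (fun i => G.obj (M i)) =>
      v ≫ sigmaComparison G M := by
    rintro ⟨⟨V, hV⟩, n⟩
    obtain ⟨e⟩ := nonempty_pull_free f V
    have hT := finFac_free_shift hS hV (fun i => G.obj (M i)) n
    have hFT : PerfCompLib.FinFac M ((EtCoh.pull f).mapDerivedCategory.obj ((freeD V)⟦n⟧)) :=
      PerfCompLib.FinFac.of_iso
        (((EtCoh.pull f).mapDerivedCategory.commShiftIso n).app (freeD V) ≪≫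
          (shiftFunctor (DCoh.DEt X) n).mapIso (((EtCoh.pull f).mapDerivedCategorySingleFunctor 0).app (free V) ≪≫
            (DerivedCategory.singleFunctor (EtCoh.Ab X) 0).mapIso e)).symm
        (finFac_free_shift hX (bc_mem f hV) M n)
    have hproj : ∀ k, PerfCompLib.proj (fun i => G.obj (M i)) k =
        sigmaComparison G M ≫ G.map (PerfCompLib.proj M k) := fun k => by
      refine Limits.Sigma.hom_ext _ _ fun j => ?_
      rw [ι_comp_sigmaComparison_assoc, ← G.map_comp]
      simp only [PerfCompLib.proj, Sigma.ι_desc]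
      split_ifs with h
      · subst h; simp
      · exact (G.map_zero _ _).symm
    refine ⟨fun v w hvw => sub_eq_zero.1 ?_, fun x => ?_⟩
    · obtain ⟨S, hS'⟩ := hT (v - w)
      rw [← hS', PerfCompLib.cut_eq_sum, Preadditive.comp_sum]
      refine Finset.sum_eq_zero fun k _ => ?_
      rw [hproj, Category.assoc, ← Category.assoc, Preadditive.sub_comp, sub_eq_zero.2 hvw, zero_comp]
    · obtain ⟨S, hS'⟩ := hFT ((adj.homAddEquiv _ _).symm x)
      refine ⟨∑ k ∈ S, adj.homAddEquiv _ _ ((adj.homAddEquiv _ _).symm x ≫ PerfCompLib.proj M k) ≫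
        Sigma.ι (fun i => G.obj (M i)) k, ?_⟩
      simp only [Preadditive.sum_comp, Category.assoc, ι_comp_sigmaComparison, Adjunction.homAddEquiv_apply,
        ← Adjunction.homEquiv_naturality_right]
      refine Eq.trans ?_ ((congrArg (adj.homEquiv _ _) hS').trans ((adj.homAddEquiv _ _).apply_symm_apply x))
      rw [PerfCompLib.cut_eq_sum, Preadditive.comp_sum, ← Adjunction.homAddEquiv_apply, map_sum]
      exact Finset.sum_congr rfl fun k _ => rfl
  haveI : IsIso (sigmaComparison G M) := isIso_of_bijective _ fun V n => hbij ⟨V, n⟩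
  haveI : PreservesColimit (Discrete.functor (K.obj ∘ Discrete.mk)) G :=
    PreservesCoproduct.of_iso_comparison G M
  exact preservesColimit_of_iso_diagram G Discrete.natIsoFunctor.symm

end Push

end Groth.Agent.EtCompLib
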