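import Groth.Agent.EtShLib.CechColim
import Groth.Agent.EtShLib.SectColimGen
import Groth.Agent.EtShLib.ExtConst
import Groth.Agent.FiltSectLib.Discrete

/-!
The free sheaf `ℤ_U` on an object of the small étale site; `Ext` out of it commutes with large
coproducts when `U` is quasi-compact and quasi-separated.
-/

set_option autoImplicit false
set_option linter.unusedSectionVars false
set_option linter.style.haveILetI false
set_option backward.isDefEq.respectTransparency false
set_option backward.isDefEq.respectTransparency.types false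
set_option synthInstance.maxHeartbeats 400000
set_option maxHeartbeats 1000000

universe u

open CategoryTheory CategoryTheory.Limits AlgebraicGeometry Opposite CategoryTheory.Abelian
open Groth.Agent.EtShLib

namespace Groth.Agent.EtCompLib

variable {X : Scheme.{u}}

/-- The free abelian sheaf on `U`. -/
noncomputable abbrev free (U : X.Etale) : EtCoh.Ab X := EtPBC.extZeroConst U ℤ

/-- The section corresponding to a map out of `ℤ_U`. -/
noncomputable def ev {U : X.Etale} {F : EtCoh.Ab X} (a : free U ⟶ F) : F.obj.obj (op U) :=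
  a.hom.app (op U) (extConstSec U ℤ (ULift.up 1))

theorem ev_comp {U : X.Etale} {F G : EtCoh.Ab X} (a : free U ⟶ F) (f : F ⟶ G) :
    ev (a ≫ f) = f.hom.app (op U) (ev a) :=
  ConcreteCategory.comp_apply (a.hom.app (op U)) (f.hom.app (op U)) _

theorem ev_zero {U : X.Etale} (F : EtCoh.Ab X) : ev (0 : free U ⟶ F) = 0 := rfl

theorem ev_injective {U : X.Etale} {F : EtCoh.Ab X} :
    Function.Injective (ev : (free U ⟶ F) → F.obj.obj (op U)) := fun a b h => by
  refine extConst_hom_ext U ℤ ?_
  ext ⟨k⟩
  have e : (ULift.up k : ULift.{u + 1} ℤ) = k • ULift.up 1 := by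
    apply ULift.ext
    show k = k • (1 : ℤ)
    simp
  show a.hom.app (op U) (extConstSec U ℤ (ULift.up k)) = b.hom.app (op U) (extConstSec U ℤ (ULift.up k))
  rw [e, map_zsmul, map_zsmul, map_zsmul]
  exact congrArg (k • ·) h

theorem ev_surjective {U : X.Etale} {F : EtCoh.Ab X} (x : F.obj.obj (op U)) :
    ∃ a : free U ⟶ F, ev a = x := by
  obtain ⟨a, ha⟩ := exists_extConst_hom U ℤ (N := F)
    (AddCommGrpCat.ofHom ((zmultiplesHom _ x).comp AddEquiv.ulift.{0, u + 1}.toAddMonoidHom))
  refine ⟨a, ?_⟩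
  have := congr($ha (ULift.up 1))
  exact this.trans (one_zsmul x)

section Colim

variable {J : Type (u + 1)} [SmallCategory J] [IsFiltered J] {D : J ⥤ EtCoh.Ab X} {c : Cocone D}

theorem stage_zero (hc : IsColimit c) (U : X.Etale) [CompactSpace U.left] {i : J}
    (s : (D.obj i).obj.obj (op U)) (h : (c.ι.app i).hom.app (op U) s = 0) :
    ∃ (k : J) (a : i ⟶ k), (D.map a).hom.app (op U) s = 0 := by
  obtain ⟨k, a, e⟩ := Gen.exists_stage_eq (A := AddCommGrpCat.{u + 1}) hc U s 0 (h.trans (map_zero _).symm)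
  exact ⟨k, a, e.trans (map_zero _)⟩

theorem stage_lift (hc : IsColimit c) (U : X.Etale) [CompactSpace U.left] [QuasiSeparatedSpace U.left]
    (t : c.pt.obj.obj (op U)) :
    ∃ (i : J) (s : (D.obj i).obj.obj (op U)), (c.ι.app i).hom.app (op U) s = t :=
  Gen.exists_stage_lift (A := AddCommGrpCat.{u + 1}) hc U t

theorem cechAcyclicQ_colim (hc : IsColimit c) (h : ∀ j, CechAcyclicQ (D.obj j)) : CechAcyclicQ c.pt := by
  intro W' W π hW' hW hπ n x hx
  haveI : CompactSpace ((EpsLib.nerveOf π).obj (n + 1)).left := (pow_mem_qcqsObj π hW' hW (n + 1)).1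
  haveI : QuasiSeparatedSpace ((EpsLib.nerveOf π).obj (n + 1)).left := (pow_mem_qcqsObj π hW' hW (n + 1)).2
  haveI : CompactSpace ((EpsLib.nerveOf π).obj (n + 1 + 1)).left := (pow_mem_qcqsObj π hW' hW (n + 1 + 1)).1
  obtain ⟨i, s, rfl⟩ := stage_lift hc ((EpsLib.nerveOf π).obj (n + 1)) x
  obtain ⟨k, a, ha⟩ := stage_zero hc ((EpsLib.nerveOf π).obj (n + 1 + 1)) _
    ((EpsLib.cechD_natural (EpsLib.nerveOf π) (c.ι.app i).hom (n + 1) s).trans hx)
  obtain ⟨y, hy⟩ := h k W' W π hW' hW hπ n _
    ((EpsLib.cechD_natural (EpsLib.nerveOf π) (D.map a).hom (n + 1) s).symm.trans ha)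
  refine ⟨(c.ι.app k).hom.app _ y, ?_⟩
  refine (EpsLib.cechD_natural (EpsLib.nerveOf π) (c.ι.app k).hom n y).symm.trans ?_
  rw [hy, ← ConcreteCategory.comp_apply]
  exact congrArg (fun w : D.obj i ⟶ c.pt => w.hom.app _ s) (c.w a)

end Colim

theorem subsingleton_ext_free {U : X.Etale} (hU : U ∈ qcqsObj X) : ∀ (p : ℕ) (G : EtCoh.Ab X),
    CechAcyclicQ G → Subsingleton (Ext.{u + 1} (free U) G (p + 1))
  | 0, G, hG => by
    haveI : Injective (CohLib.injSC G).X₂ := inferInstanceAs (Injective (Injective.under G))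
    haveI := CohLib.subsingleton_ext_injective.{u + 1} (free U) (CohLib.injSC G).X₂ 0
    refine CohLib.subsingleton_ext_one_of_lift (CohLib.injSC_shortExact G) fun s => ?_
    obtain ⟨t, ht⟩ := surjective_sections (CohLib.injSC_shortExact G) hG hU (ev s)
    obtain ⟨a, ha⟩ := ev_surjective t
    exact ⟨a, ev_injective (by rw [ev_comp, ha]; exact ht)⟩
  | p + 1, G, hG => by
    haveI : Injective (CohLib.injSC G).X₂ := inferInstanceAs (Injective (Injective.under G))
    haveI := CohLib.subsingleton_ext_injective.{u + 1} (free U) (CohLib.injSC G).X₂ (p + 1)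
    haveI := subsingleton_ext_free hU p _ (cechAcyclicQ_quotient (CohLib.injSC_shortExact G) hG)
    exact CohLib.subsingleton_ext_of_shift (CohLib.injSC_shortExact G)

theorem preservesFiltered_ext_free {U : X.Etale} (hU : U ∈ qcqsObj X) (n : ℕ) (J : Type (u + 1))
    [SmallCategory J] [IsFiltered J] :
    PreservesColimitsOfShape J (Abelian.extFunctorObj.{u + 1} (free U) n) := by
  haveI : CompactSpace U.left := hU.1
  haveI : QuasiSeparatedSpace U.left := hU.2
  refine FiltExtLib.preservesColimitsOfShape_ext (FiltExtLib.extComm_of_acyclic ?_ ?_ ?_ n)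
  · intro D t
    obtain ⟨i, y, hy⟩ := stage_lift (colimit.isColimit D) U (ev t)
    obtain ⟨s, rfl⟩ := ev_surjective y
    exact ⟨i, s, ev_injective ((ev_comp s _).trans hy)⟩
  · intro D i s h
    obtain ⟨k, a, ha⟩ := stage_zero (colimit.isColimit D) U (ev s)
      ((ev_comp s _).symm.trans (congrArg ev h))
    exact ⟨k, a, ev_injective ((ev_comp s _).trans ha)⟩
  · intro q I hI
    exact subsingleton_ext_free hU q _ (cechAcyclicQ_colim (colimit.isColimit I) fun j =>
      @cechAcyclicQ_injective _ (I.obj j) (hI j))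

theorem preservesSums_ext_free {U : X.Etale} (hU : U ∈ qcqsObj X) (n : ℕ) (ι : Type (u + 1)) :
    PreservesColimitsOfShape (Discrete ι) (Abelian.extFunctorObj.{u + 1} (free U) n) := by
  classical
  haveI := preservesFiltered_ext_free hU n (Finset (Discrete ι))
  exact FiltSectLib.preservesColimitsOfShape_discrete _ ι

end Groth.Agent.EtCompLib
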